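import Mathlib
import Cfsg.Agent.Lib.Helper46.FP.Defs

/-!
# S3814: glue for `LemY` from its two halves

`LY1` is the structure of a minimal subgroup (exponent `a`, class two, generated by the commutators
with `y`), `LY2` shows that such a subgroup is abelian.  Together with the hypothesis (ab) of `LemY`
they give `LemY`.
-/

namespace Cfsg.Agent.Lib.Helper46.FP

universe u

/-- Structure of a minimal `T`-invariant subgroup not centralized by `y`. -/
def LY1 : Prop :=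
  ∀ {G : Type u} [Group G] [Finite G] (a b : ℕ), a.Prime → b.Prime → a ≠ b → a ≠ 2 →
    ∀ (P : Subgroup G), IsPGroup a P → ∀ (y : G), orderOf y = b → ∀ (T : Set G), y ∈ T →
      (∀ g ∈ T, ∀ x ∈ P, g * x * g⁻¹ ∈ P) → (∀ g ∈ T, g * y * g⁻¹ ∈ Subgroup.zpowers y) →
      (∀ X : Subgroup G, X ≤ P → X ≠ P → (∀ g ∈ T, ∀ x ∈ X, g * x * g⁻¹ ∈ X) →
        ∀ x ∈ X, y * x = x * y) →
      (∃ x ∈ P, y * x ≠ x * y) →
      (∀ u ∈ P, u ^ a = 1) ∧
      (∀ u ∈ P, ∀ v ∈ P, ∀ w ∈ P, (u * v * u⁻¹ * v⁻¹) * w = w * (u * v * u⁻¹ * v⁻¹)) ∧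
      (∀ u ∈ P, ∀ v ∈ P, y * (u * v * u⁻¹ * v⁻¹) = (u * v * u⁻¹ * v⁻¹) * y) ∧
      (∀ K : Subgroup G, (∀ u ∈ P, u * y * u⁻¹ * y⁻¹ ∈ K) → P ≤ K)

/-- A subgroup with the structure given by `LY1` is abelian. -/
def LY2 : Prop :=
  ∀ {G : Type u} [Group G] [Finite G] (a b c : ℕ), a.Prime → b.Prime → c.Prime →
    a ≠ b → a ≠ c → b ≠ c →
    ∀ (P : Subgroup G), IsPGroup a P →
    ∀ (y z0 z3 : G), orderOf y = b → orderOf z0 = c → orderOf z3 = c →
      (∀ x ∈ P, y * x * y⁻¹ ∈ P) → (∀ x ∈ P, z0 * x * z0⁻¹ ∈ P) → (∀ x ∈ P, z3 * x * z3⁻¹ ∈ P) →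
      z0 * z3 = z3 * z0 → z3 * y = y * z3 →
      z0 * y * z0⁻¹ ∈ Subgroup.zpowers y → z0 * y ≠ y * z0 →
      (∀ x ∈ P, z3 * x = x * z3 → x = 1) →
      (∀ e ∈ Subgroup.closure ({z0, z3} : Set G), e ≠ 1 → ∀ x ∈ P, ∀ x' ∈ P,
        e * x = x * e → e * x' = x' * e → x * x' = x' * x → orderOf x = a → orderOf x' = a →
        x' ∈ Subgroup.zpowers x) →
      (∀ u ∈ P, u ^ a = 1) →
      (∀ u ∈ P, ∀ v ∈ P, ∀ w ∈ P, (u * v * u⁻¹ * v⁻¹) * w = w * (u * v * u⁻¹ * v⁻¹)) →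
      (∀ K : Subgroup G, (∀ u ∈ P, u * y * u⁻¹ * y⁻¹ ∈ K) → P ≤ K) →
      ∀ u ∈ P, ∀ v ∈ P, u * v = v * u

/-- `LemY` from its two halves. -/
theorem lemY_of_LY (h1 : LY1.{u}) (h2 : LY2.{u}) : LemY.{u} := by
  intro G _ _ a b c ha hb hc hab hac hbc hca A hA y z0 z3 hy h0 h3 hyA h0A h3A h03 h3y h0y h0y'
    hfpf hcyc habel
  have ha2 : a ≠ 2 := by
    rintro rfl
    have : c ∣ 1 := by simpa using hca
    exact hc.one_lt.ne' (Nat.dvd_one.mp this)
  -- the set of operators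
  set T : Set G := {y, z0, z3} with hT
  have hyT : y ∈ T := by simp [hT]
  have hTy : ∀ g ∈ T, g * y * g⁻¹ ∈ Subgroup.zpowers y := by
    intro g hg
    rcases hg with rfl | rfl | rfl
    · simp
    · exact h0y
    · rw [h3y]; simp
  -- strong induction on the order
  have key : ∀ n : ℕ, ∀ P : Subgroup G, Nat.card P = n → P ≤ A →
      (∀ g ∈ T, ∀ x ∈ P, g * x * g⁻¹ ∈ P) → ∀ x ∈ P, y * x = x * y := by
    intro n
    induction n using Nat.strong_induction_on with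
    | _ n ih =>
      intro P hPn hPA hTP
      by_contra hcon
      push Not at hcon
      have hP : IsPGroup a P := hA.to_le hPA
      have hmin : ∀ X : Subgroup G, X ≤ P → X ≠ P → (∀ g ∈ T, ∀ x ∈ X, g * x * g⁻¹ ∈ X) →
          ∀ x ∈ X, y * x = x * y := by
        intro X hXP hne hTX
        have hlt : Nat.card X < Nat.card P := by
          by_contra hge
          push Not at hge
          exact hne (Subgroup.eq_of_le_of_card_ge hXP hge)
        exact ih (Nat.card X) (hPn ▸ hlt) X rfl (hXP.trans hPA) hTX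
      obtain ⟨hexp, hcl2, -, hgen⟩ := h1 a b ha hb hab ha2 P hP y hy T hyT hTP hTy hmin hcon
      have hab' : ∀ u ∈ P, ∀ v ∈ P, u * v = v * u :=
        h2 a b c ha hb hc hab hac hbc P hP y z0 z3 hy h0 h3
          (hTP y hyT) (hTP z0 (by simp [hT])) (hTP z3 (by simp [hT])) h03 h3y h0y h0y'
          (fun x hx => hfpf x (hPA hx))
          (fun e he he1 x hx x' hx' => hcyc e he he1 x (hPA hx) x' (hPA hx'))
          hexp hcl2 hgen
      obtain ⟨x, hx, hxy⟩ := hcon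
      exact hxy (habel P hPA hab' (hTP y hyT) x hx)
  intro x hx
  refine key (Nat.card A) A rfl le_rfl ?_ x hx
  intro g hg
  rcases hg with rfl | rfl | rfl
  · exact hyA
  · exact h0A
  · exact h3A

end Cfsg.Agent.Lib.Helper46.FP
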